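import Groth.Agent.WittHom.Iso

/-!
# Factoring and lifting homomorphisms of Witt groups
-/

set_option autoImplicit false
universe u

noncomputable section

namespace Groth.Agent.WittHom

open CategoryTheory CategoryTheory.Limits MonoidalCategory CartesianMonoidalCategory MonObj AlgebraicGeometry
open Groth.Agent.WittSub (LowZero lowZero_nsmul val)

variable {p : ℕ} [hp : Fact p.Prime] {k : Type u} [Field k] {n m : ℕ}

/-- Twist of a polynomial map by an automorphism of the field. -/
theorem IsPoly.twist {φ : TW p n k → TW p m k} (hφ : IsPoly φ) (σ : k ≃+* k) :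
    IsPoly fun v => WittGrp.truncMap p m σ.toRingHom (φ (WittGrp.truncMap p n σ.symm.toRingHom v)) := by
  obtain ⟨G, hG⟩ := hφ
  refine ⟨WittGrp.truncMap p m (MvPolynomial.map σ.toRingHom) G, fun v => ?_⟩
  show WittGrp.truncMap p m σ.toRingHom (φ _) = _
  rw [hG]
  refine TruncatedWittVector.ext fun i => ?_
  simp only [evMap, WittGrp.coeff_truncMap]
  refine congr($(MvPolynomial.ringHom_ext
    (f := σ.toRingHom.comp (MvPolynomial.eval (crd (WittGrp.truncMap p n σ.symm.toRingHom v))))
    (g := (MvPolynomial.eval (crd v)).comp (MvPolynomial.map σ.toRingHom)) (fun r => ?_) fun j => ?_) _)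
  · simp
  · simp [crd]

variable [CharP k p] [PerfectRing k p]

theorem truncMap_frobeniusEquiv (v : TW p n k) :
    WittGrp.truncMap p n (frobeniusEquiv k p).toRingHom v = Fr n v :=
  TruncatedWittVector.ext fun i => by
    rw [WittGrp.coeff_truncMap, coeff_Fr]
    rfl

theorem truncMap_frobeniusEquiv_symm (v : TW p n k) :
    WittGrp.truncMap p n (frobeniusEquiv k p).symm.toRingHom (Fr n v) = v :=
  TruncatedWittVector.ext fun i => by
    rw [WittGrp.coeff_truncMap, coeff_Fr]
    exact (frobeniusEquiv k p).symm_apply_apply _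

theorem Fr_truncMap_symm (v : TW p n k) :
    Fr n (WittGrp.truncMap p n (frobeniusEquiv k p).symm.toRingHom v) = v :=
  TruncatedWittVector.ext fun i => by
    rw [coeff_Fr, WittGrp.coeff_truncMap]
    exact (frobeniusEquiv k p).apply_symm_apply _

local notation "Sk" => Spec (CommRingCat.of k)

variable [IsAlgClosed k]

/-- Morphisms are compared on rational points. -/
theorem comp_eq {l : ℕ} {f : WittGrp.W p n Sk ⟶ WittGrp.W p m Sk} {g : WittGrp.W p m Sk ⟶ WittGrp.W p l Sk}
    {h : WittGrp.W p n Sk ⟶ WittGrp.W p l Sk} (H : ∀ v, act g (act f v) = act h v) : f ≫ g = h :=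
  hom_ext fun v => by rw [act_comp, H]

/-- Squares are compared on rational points. -/
theorem comm_eq {l q : ℕ} {f : WittGrp.W p n Sk ⟶ WittGrp.W p m Sk} {g : WittGrp.W p m Sk ⟶ WittGrp.W p l Sk}
    {f' : WittGrp.W p n Sk ⟶ WittGrp.W p q Sk} {g' : WittGrp.W p q Sk ⟶ WittGrp.W p l Sk}
    (H : ∀ v, act g (act f v) = act g' (act f' v)) : f ≫ g = f' ≫ g' :=
  hom_ext fun v => by rw [act_comp, act_comp, H]

theorem truncate_surjective (h : n ≤ m) (v : TW p n k) :
    ∃ w : TW p m k, TruncatedWittVector.truncate h w = v := ⟨pad m v, truncate_pad h v⟩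

omit [CharP k p] [PerfectRing k p] in
theorem eq_zero_of_length_zero (v : TW p 0 k) : v = 0 := TruncatedWittVector.ext fun i => i.elim0

/-- A vector which generates. -/
theorem pow_smul_ne_zero (v : TW p (n + 1) k) (hv : v.coeff 0 ≠ 0) : (p ^ n) • v ≠ 0 := fun h => by
  have h1 := (lowZero_nsmul n (t := 0) (u := v) fun i hi => absurd hi (Nat.not_lt_zero _)).2
    (Fin.last n) 0 (by simp) rfl
  rw [h, TruncatedWittVector.coeff_zero] at h1
  exact pow_ne_zero _ hv h1.symm

/-- Lifting along a restriction. -/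
theorem exists_lift_R_iff (f : WittGrp.W p (n + 1) Sk ⟶ WittGrp.W p (n + 1) Sk) [IsMonHom f] :
    (∃ g : WittGrp.W p (n + 1) Sk ⟶ WittGrp.W p (n + 1 + 1) Sk, IsMonHom g ∧
      g ≫ WittGrp.R p Sk (Nat.le_add_right (n + 1) 1) = f) ↔ ¬ SGA7.IsIsogenyOver f := by
  constructor
  · rintro ⟨g, hg, hgR⟩ ⟨hs, -⟩
    haveI := hg
    haveI := hs
    let v : TW p (n + 1 + 1) k := TruncatedWittVector.mk p fun i => if (i : ℕ) = 0 then 1 else 0
    obtain ⟨z, hz⟩ := act_surjective f (TruncatedWittVector.truncate (Nat.le_add_right (n + 1) 1) v)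
    rw [← hgR, act_comp, act_R] at hz
    have hz0 := congrArg (fun w : TW p (n + 1) k => w.coeff 0) hz
    simp only [TruncatedWittVector.coeff_truncate, v, TruncatedWittVector.coeff_mk] at hz0
    refine pow_smul_ne_zero (actHom g z) ?_ ?_
    · intro h0
      have e : Fin.castLE (Nat.le_add_right (n + 1) 1) (0 : Fin (n + 1)) = 0 := rfl
      rw [e] at hz0
      simp only [Fin.val_zero, if_true] at hz0
      exact one_ne_zero (hz0.symm.trans h0)
    · rw [← map_nsmul, pow_smul_eq_zero le_rfl, map_zero]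
  · intro hf
    rcases surjective_finite_or_factor (actHom f) (isPoly_act f) with ⟨h1, h2⟩ | ⟨χ, hχ, hf'⟩
    · exact absurd (isIsogenyOver_of_act f h1 h2) hf
    obtain ⟨Φ, hΦ, hΦ'⟩ := (std_of_endo n χ hχ).lift_R
    obtain ⟨g, hg, hga⟩ := exists_hom (fun v => Vup (n + 1) (Φ v)) (hΦ.isPoly.shift (Nat.le_succ _))
      fun v w => by rw [map_add, map_add]
    refine ⟨g, hg, comp_eq fun v => ?_⟩
    rw [hga, act_R, show act f v = actHom f v from rfl, hf', ← hΦ', Vup_truncate]
    rfl

/-- Extending along a shift. -/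
theorem exists_extend_V_iff (g : WittGrp.W p (n + 1) Sk ⟶ WittGrp.W p (n + 1) Sk) [IsMonHom g] :
    (∃ g' : WittGrp.W p (n + 1 + 1) Sk ⟶ WittGrp.W p (n + 1) Sk, IsMonHom g' ∧
      WittGrp.V p Sk (Nat.le_add_right (n + 1) 1) ≫ g' = g) ↔ ¬ SGA7.IsIsogenyOver g := by
  constructor
  · rintro ⟨g', hg', hVg⟩ ⟨hs, -⟩
    haveI := hg'
    haveI := hs
    obtain ⟨z, hz⟩ := act_surjective g (TruncatedWittVector.mk p fun _ => 1)
    rw [← hVg, act_comp, act_V] at hz
    have hlow : LowZero 1 (WittGrp.shift p (Nat.le_add_right (n + 1) 1) z) := fun i hi => by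
      rw [WittGrp.coeff_shift, dif_neg (by omega)]
    have h1 := map_lowZero (actHom g') hlow 0 (by simp)
    rw [show actHom g' _ = _ from hz, TruncatedWittVector.coeff_mk] at h1
    exact one_ne_zero h1
  · intro hg
    rcases surjective_finite_or_factor (actHom g) (isPoly_act g) with ⟨h1, h2⟩ | ⟨χ, hχ, hg'⟩
    · exact absurd (isIsogenyOver_of_act g h1 h2) hg
    obtain ⟨Φ, hΦ, hΦ'⟩ := (std_of_endo n χ hχ).lift_V
    obtain ⟨g', hg'm, hga⟩ := exists_hom
      (fun v => Φ (TruncatedWittVector.truncate (Nat.le_succ (n + 1)) v))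
      (hΦ.isPoly.comp ((isPoly_id).truncate (Nat.le_succ (n + 1)))) fun v w => by rw [map_add, map_add]
    refine ⟨g', hg'm, comp_eq fun v => ?_⟩
    rw [hga, act_V, show act g v = actHom g v from rfl, hg', ← hΦ', Vup_truncate]
    rfl

end Groth.Agent.WittHom
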