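import Mathlib.Algebra.Polynomial.Taylor
import Mathlib.Algebra.Polynomial.Expand
import Mathlib.Algebra.CharP.Lemmas
import Mathlib.Algebra.Polynomial.Roots

/-!
# Additive functions given by polynomials
-/

set_option autoImplicit false
universe u

noncomputable section

namespace Groth.Agent.WittHom

open Polynomial

variable {k : Type u} [Field k] (p : ℕ) [hp : Fact p.Prime] [CharP k p] [Infinite k]

theorem coeff_eq_zero_of_not_pow {P : k[X]} (h : ∀ x y, P.eval (x + y) = P.eval x + P.eval y) {i : ℕ}
    (hi : ∀ j, i ≠ p ^ j) : P.coeff i = 0 := by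
  have h0 : P.eval 0 = 0 := by simpa using h 0 0
  rcases Nat.eq_zero_or_pos i with rfl | hpos
  · rwa [coeff_zero_eq_eval_zero]
  have htaylor : ∀ l, 0 < l → hasseDeriv l P = C (P.coeff l) := by
    intro l hl
    refine Polynomial.funext fun x => ?_
    have hT : taylor x P = P + C (P.eval x) := Polynomial.funext fun y => by
      rw [taylor_eval, eval_add, eval_C, h]
    rw [eval_C, ← taylor_coeff, hT, coeff_add, coeff_C, if_neg hl.ne', add_zero]
  obtain ⟨v, m, hm, rfl⟩ := Nat.exists_eq_pow_mul_and_not_dvd hpos.ne' p hp.out.ne_one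
  have hm1 : 1 < m := by
    rcases m with _ | _ | m
    · simp at hm
    · exact absurd (mul_one _) (hi v)
    · omega
  have hl : p ^ v < p ^ v * m := lt_mul_of_one_lt_right (pow_pos hp.out.pos v) hm1
  have hc := congrArg (fun q : k[X] => q.coeff (p ^ v * m - p ^ v)) (htaylor (p ^ v) (pow_pos hp.out.pos v))
  simp only [hasseDeriv_coeff, coeff_C, Nat.sub_add_cancel hl.le] at hc
  rw [if_neg (by omega)] at hc
  have hch : ((p ^ v * m).choose (p ^ v) : k) = (m : k) := by
    have e : ((X : k[X]) + 1) ^ (p ^ v * m) = expand k (p ^ v) (((X : k[X]) + 1) ^ m) := by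
      rw [pow_mul, add_pow_char_pow, one_pow, map_pow, map_add, expand_X, map_one]
    have := congrArg (fun q : k[X] => q.coeff (p ^ v * 1)) e
    simp only [coeff_X_add_one_pow, mul_one] at this
    have h1 := coeff_expand_mul' (pow_pos hp.out.pos v) ((((X : k[X]) + 1) ^ m)) 1
    rw [mul_one] at h1
    rw [this, h1, coeff_X_add_one_pow, Nat.choose_one_right]
  rw [hch] at hc
  exact (mul_eq_zero.1 hc).resolve_left fun h0 => hm ((CharP.cast_eq_zero_iff k p m).1 h0)

/-- An additive polynomial function is a sum of iterated Frobenius maps. -/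
theorem exists_sum_of_additive {P : k[X]} (h : ∀ x y, P.eval (x + y) = P.eval x + P.eval y) :
    ∃ (N : ℕ) (a : ℕ → k), ∀ x, P.eval x = ∑ j ∈ Finset.range N, a j * x ^ p ^ j := by
  classical
  refine ⟨P.natDegree + 1, fun j => P.coeff (p ^ j), fun x => ?_⟩
  rw [eval_eq_sum, sum_def]
  have hsub : P.support ⊆ (Finset.range (P.natDegree + 1)).image (fun j => p ^ j) := by
    intro i hi
    rw [mem_support_iff] at hi
    obtain ⟨j, rfl⟩ : ∃ j, i = p ^ j := by
      by_contra hne
      exact hi (coeff_eq_zero_of_not_pow p h (not_exists.1 hne))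
    refine Finset.mem_image.2 ⟨j, Finset.mem_range.2 (Nat.lt_succ_of_le ?_), rfl⟩
    exact (Nat.lt_pow_self hp.out.one_lt).le.trans (le_natDegree_of_ne_zero hi)
  rw [Finset.sum_subset hsub fun i _ hi => by rw [notMem_support_iff.1 hi, zero_mul],
    Finset.sum_image fun a _ b _ hab => Nat.pow_right_injective hp.out.two_le hab]

end Groth.Agent.WittHom
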