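import Groth.Agent.WittSub.Main
import Mathlib.Algebra.MvPolynomial.Funext

/-!
# Morphisms of Witt groups as polynomial maps on rational points
-/

set_option autoImplicit false
universe u

noncomputable section

namespace Groth.Agent.WittHom

open CategoryTheory MonoidalCategory CartesianMonoidalCategory MonObj AlgebraicGeometry Opposite MvPolynomial
open Groth.Agent.WittSub (val val_mul val_injective val_surjective val_V)

variable {p : ℕ} [hp : Fact p.Prime] {k : Type u} [Field k]

local notation "Sk" => Spec (CommRingCat.of k)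

/-- Truncated Witt vectors of the field. -/
abbrev TW (p n : ℕ) (k : Type u) [Field k] := TruncatedWittVector p n k

/-- Constants in the functions on a scheme over the field. -/
def kΓ (T : Over Sk) : k →+* Γ(T.left, ⊤) :=
  T.hom.appTop.hom.comp (Scheme.ΓSpecIso (CommRingCat.of k)).inv.hom

theorem appTop_kΓ {T T' : Over Sk} (g : T' ⟶ T) : g.left.appTop.hom.comp (kΓ T) = kΓ T' := by
  rw [kΓ, kΓ, ← RingHom.comp_assoc, ← CommRingCat.hom_comp, ← Scheme.Hom.comp_appTop, Over.w g]

variable {n m l : ℕ}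

/-- Evaluation of a polynomial at a point. -/
def E (T : Over Sk) (z : T ⟶ WittGrp.W p n Sk) : MvPolynomial (Fin n) k →+* Γ(T.left, ⊤) :=
  eval₂Hom (kΓ T) fun i => (WittGrp.pts p T (Additive.ofMul z)).coeff i

theorem appTop_E {T T' : Over Sk} (g : T' ⟶ T) (z : T ⟶ WittGrp.W p n Sk) :
    g.left.appTop.hom.comp (E T z) = E T' (g ≫ z) := by
  refine MvPolynomial.ringHom_ext (fun c => ?_) fun i => ?_
  · simp only [E, RingHom.comp_apply, eval₂Hom_C]
    exact congr($(appTop_kΓ g) c)
  · simp only [E, RingHom.comp_apply, eval₂Hom_X', WittGrp.pts_comp, WittGrp.coeff_truncMap]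

theorem bijective_E_id : Function.Bijective (E (WittGrp.W p n Sk) (𝟙 _)) := by
  haveI : IsAffine Sk := inferInstance
  let X := 𝔸(ULift.{u} (Fin n); Sk)
  let i₀ := AffineSpace.isoOfIsAffine (ULift.{u} (Fin n)) Sk
  let e₀ : MvPolynomial (ULift.{u} (Fin n)) Γ(Sk, ⊤) →+* Γ(X, ⊤) :=
    eval₂Hom ((X ↘ Sk).appTop).hom (AffineSpace.coord Sk)
  haveI : IsIso i₀.hom.appTop := inferInstanceAs (IsIso (Scheme.Γ.map i₀.hom.op))
  have h1 : Function.Bijective i₀.hom.appTop := ConcreteCategory.bijective_of_isIso _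
  rw [AffineSpace.isoOfIsAffine_hom_appTop] at h1
  have h2 : Function.Bijective e₀ := by
    have h3 := h1.comp (Scheme.ΓSpecIso
      (CommRingCat.of (MvPolynomial (ULift.{u} (Fin n)) Γ(Sk, ⊤)))).symm.commRingCatIsoToRingEquiv.bijective
    convert h3 using 1
    funext q
    exact congrArg e₀
      ((Scheme.ΓSpecIso (CommRingCat.of (MvPolynomial (ULift.{u} (Fin n)) Γ(Sk, ⊤)))).commRingCatIsoToRingEquiv.apply_symm_apply q).symm
  let r : MvPolynomial (Fin n) k ≃+* MvPolynomial (ULift.{u} (Fin n)) Γ(Sk, ⊤) :=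
    (renameEquiv k Equiv.ulift.{u}.symm).toRingEquiv.trans
      (MvPolynomial.mapEquiv _ (Scheme.ΓSpecIso (CommRingCat.of k)).symm.commRingCatIsoToRingEquiv)
  have h4 : E (WittGrp.W p n Sk) (𝟙 _) = e₀.comp r.toRingHom := by
    refine MvPolynomial.ringHom_ext (fun c => ?_) fun i => ?_
    · have hr : r (C c) = C ((Scheme.ΓSpecIso (CommRingCat.of k)).inv c) := by
        simp only [r, RingEquiv.trans_apply]
        rw [show (renameEquiv k Equiv.ulift.{u}.symm).toRingEquiv (C c) = (C c : MvPolynomial (ULift.{u} (Fin n)) k) from rename_C _ c]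
        exact MvPolynomial.map_C _ c
      show _ = e₀ (r (C c))
      rw [hr]
      simp only [E, eval₂Hom_C, e₀]
      rfl
    · have hr : r (MvPolynomial.X i) = MvPolynomial.X (ULift.up i) := by
        simp only [r, RingEquiv.trans_apply]
        rw [show (renameEquiv k Equiv.ulift.{u}.symm).toRingEquiv (MvPolynomial.X i) = (MvPolynomial.X (ULift.up i) : MvPolynomial (ULift.{u} (Fin n)) k) from rename_X _ i]
        exact MvPolynomial.map_X _ _
      show _ = e₀ (r (MvPolynomial.X i))
      rw [hr]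
      simp only [E, eval₂Hom_X', e₀, WittGrp.coeff_pts]
      simp
      rfl
  rw [h4]
  exact h2.comp r.bijective

/-- The morphism given by polynomials. -/
def ofPoly (P : Fin m → MvPolynomial (Fin n) k) : WittGrp.W p n Sk ⟶ WittGrp.W p m Sk :=
  (WittGrp.ptsEquiv p (WittGrp.W p n Sk)).symm
    (Multiplicative.ofAdd (TruncatedWittVector.mk p fun i => E (WittGrp.W p n Sk) (𝟙 _) (P i)))

theorem coeff_comp_ofPoly (P : Fin m → MvPolynomial (Fin n) k) {T : Over Sk} (z : T ⟶ WittGrp.W p n Sk)
    (i : Fin m) : (WittGrp.pts p T (Additive.ofMul (z ≫ ofPoly P))).coeff i = E T z (P i) := by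
  rw [WittGrp.pts_comp, WittGrp.coeff_truncMap]
  have h : WittGrp.pts p (WittGrp.W p n Sk) (Additive.ofMul (ofPoly P)) =
      TruncatedWittVector.mk p fun i => E (WittGrp.W p n Sk) (𝟙 _) (P i) := by
    show Multiplicative.toAdd (WittGrp.ptsEquiv p _ (ofPoly P)) = _
    rw [ofPoly, Equiv.apply_symm_apply, toAdd_ofAdd]
  rw [h, TruncatedWittVector.coeff_mk]
  exact (congr($(appTop_E z (𝟙 (WittGrp.W p n Sk))) (P i))).trans (by rw [Category.comp_id])

theorem exists_ofPoly_eq (f : WittGrp.W p n Sk ⟶ WittGrp.W p m Sk) :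
    ∃ P, ofPoly P = f := by
  choose P hP using fun i : Fin m => (bijective_E_id (p := p) (k := k) (n := n)).2
    ((WittGrp.pts p _ (Additive.ofMul f)).coeff i)
  refine ⟨P, WittGrp.pts_injective p _ (TruncatedWittVector.ext fun i => ?_)⟩
  show (WittGrp.pts p _ (Additive.ofMul (ofPoly P))).coeff i = _
  rw [← hP i, ← coeff_comp_ofPoly P (𝟙 _) i, Category.id_comp]

/-- The components of a vector. -/
def crd {R : Type u} [CommRing R] (v : TruncatedWittVector p n R) : Fin n → R := fun i => v.coeff i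

theorem hom_E_point (x : 𝟙_ (Over Sk) ⟶ WittGrp.W p n Sk) (q : MvPolynomial (Fin n) k) :
    (Scheme.ΓSpecIso (CommRingCat.of k)).hom (E (𝟙_ (Over Sk)) x q) = eval (crd (val x)) q := by
  refine congr($(MvPolynomial.ringHom_ext
    (f := (Scheme.ΓSpecIso (CommRingCat.of k)).hom.hom.comp (E (𝟙_ (Over Sk)) x))
    (g := eval (crd (val x))) (fun c => ?_) fun i => ?_) q)
  · simp only [E, RingHom.comp_apply, eval₂Hom_C, eval_C, kΓ]
    show (Scheme.ΓSpecIso (CommRingCat.of k)).hom ((𝟙 (Spec (CommRingCat.of k)) : _ ⟶ _).appTop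
      ((Scheme.ΓSpecIso (CommRingCat.of k)).inv c)) = c
    rw [Scheme.Hom.id_appTop]
    exact (Scheme.ΓSpecIso (CommRingCat.of k)).commRingCatIsoToRingEquiv.apply_symm_apply c
  · simp only [E, RingHom.comp_apply, eval₂Hom_X', eval_X, crd, WittSub.val, WittGrp.coeff_truncMap]

theorem crd_val_comp_ofPoly (P : Fin m → MvPolynomial (Fin n) k) (x : 𝟙_ (Over Sk) ⟶ WittGrp.W p n Sk)
    (i : Fin m) : (val (x ≫ ofPoly P)).coeff i = eval (crd (val x)) (P i) := by
  rw [← hom_E_point, ← coeff_comp_ofPoly, WittSub.val, WittGrp.coeff_truncMap]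

/-- A vector of polynomials gives a map on points. -/
def evMap (G : TruncatedWittVector p m (MvPolynomial (Fin n) k)) (v : TW p n k) : TW p m k :=
  WittGrp.truncMap p m (eval (crd v)) G

/-- Maps given by polynomials. -/
def IsPoly (φ : TW p n k → TW p m k) : Prop := ∃ G, ∀ v, φ v = evMap G v

theorem val_comp (f : WittGrp.W p n Sk ⟶ WittGrp.W p m Sk) :
    ∃ G : TruncatedWittVector p m (MvPolynomial (Fin n) k),
      ∀ x : 𝟙_ (Over Sk) ⟶ WittGrp.W p n Sk, val (x ≫ f) = evMap G (val x) := by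
  obtain ⟨P, rfl⟩ := exists_ofPoly_eq f
  exact ⟨TruncatedWittVector.mk p P, fun x => TruncatedWittVector.ext fun i => by
    rw [crd_val_comp_ofPoly, evMap, WittGrp.coeff_truncMap, TruncatedWittVector.coeff_mk]⟩

/-- The rational point of a vector. -/
def pt (v : TW p n k) : 𝟙_ (Over Sk) ⟶ WittGrp.W p n Sk := (val_surjective v).choose

theorem val_pt (v : TW p n k) : val (pt v) = v := (val_surjective v).choose_spec

/-- The map on rational points of a morphism. -/
def act (f : WittGrp.W p n Sk ⟶ WittGrp.W p m Sk) (v : TW p n k) : TW p m k := val (pt v ≫ f)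

theorem val_comp_eq_act (f : WittGrp.W p n Sk ⟶ WittGrp.W p m Sk) (x : 𝟙_ (Over Sk) ⟶ WittGrp.W p n Sk) :
    val (x ≫ f) = act f (val x) := by
  rw [act, show pt (val x) = x from val_injective (val_pt _)]

theorem isPoly_act (f : WittGrp.W p n Sk ⟶ WittGrp.W p m Sk) : IsPoly (act f) := by
  obtain ⟨G, hG⟩ := val_comp f
  exact ⟨G, fun v => by rw [act, hG, val_pt]⟩

theorem act_comp (f : WittGrp.W p n Sk ⟶ WittGrp.W p m Sk) (g : WittGrp.W p m Sk ⟶ WittGrp.W p l Sk) (v : TW p n k) :
    act (f ≫ g) v = act g (act f v) := by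
  rw [act, ← Category.assoc, val_comp_eq_act]
  rfl

theorem act_add (f : WittGrp.W p n Sk ⟶ WittGrp.W p m Sk) [IsMonHom f] (v w : TW p n k) :
    act f (v + w) = act f v + act f w := by
  conv_lhs => rw [← val_pt v, ← val_pt w, ← val_mul, ← val_comp_eq_act, MonObj.mul_comp]
  rw [val_mul, val_comp_eq_act, val_comp_eq_act, val_pt, val_pt]

/-- The homomorphism on rational points. -/
def actHom (f : WittGrp.W p n Sk ⟶ WittGrp.W p m Sk) [IsMonHom f] : TW p n k →+ TW p m k :=
  AddMonoidHom.mk' (act f) (act_add f)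

theorem act_R (h : n ≤ m) (v : TW p m k) :
    act (WittGrp.R p Sk h) v = TruncatedWittVector.truncate h v := by
  conv_rhs => rw [← val_pt v]
  rw [act, WittSub.val, WittSub.val, WittGrp.pts_R, WittGrp.truncMap_truncateLE]

theorem act_V (h : n ≤ m) (v : TW p n k) : act (WittGrp.V p Sk h) v = WittGrp.shift p h v := by
  rw [act, val_V, val_pt]

theorem act_F (hpS : (p : Γ(Sk, ⊤)) = 0) (hk : (p : k) = 0) (v : TW p n k) :
    act (WittGrp.F p n Sk hpS) v = WittGrp.frob p n hk v := by
  conv_rhs => rw [← val_pt v]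
  rw [act, WittSub.val, WittSub.val, WittGrp.pts_F, WittGrp.truncMap_frob p n _ hk]

variable [Infinite k]

theorem hom_ext {f g : WittGrp.W p n Sk ⟶ WittGrp.W p m Sk} (h : ∀ v, act f v = act g v) : f = g := by
  obtain ⟨P, rfl⟩ := exists_ofPoly_eq f
  obtain ⟨Q, rfl⟩ := exists_ofPoly_eq g
  congr 1
  funext i
  refine MvPolynomial.funext fun c => ?_
  have hc := congrArg (fun v : TW p m k => v.coeff i) (h (TruncatedWittVector.mk p c))
  simp only [act] at hc
  rw [crd_val_comp_ofPoly, crd_val_comp_ofPoly, val_pt] at hc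
  have e : crd (TruncatedWittVector.mk p c) = c := funext fun j => TruncatedWittVector.coeff_mk _ _
  rwa [e] at hc

theorem isMonHom_of_act (f : WittGrp.W p n Sk ⟶ WittGrp.W p m Sk)
    (hadd : ∀ v w, act f (v + w) = act f v + act f w) : IsMonHom f := by
  obtain ⟨P, rfl⟩ := exists_ofPoly_eq f
  let U := MvPolynomial (Fin n ⊕ Fin n) k
  let a : TruncatedWittVector p n U := TruncatedWittVector.mk p fun i => X (Sum.inl i)
  let b : TruncatedWittVector p n U := TruncatedWittVector.mk p fun i => X (Sum.inr i)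
  let ev : TruncatedWittVector p n U → TruncatedWittVector p m U := fun c =>
    TruncatedWittVector.mk p fun i => eval₂Hom (C : k →+* U) (crd c) (P i)
  have hev : ∀ {A : Type u} [CommRing A] (κ : k →+* A) (φ : U →+* A) (hφ : φ.comp C = κ)
      (c : TruncatedWittVector p n U), WittGrp.truncMap p m φ (ev c) =
        TruncatedWittVector.mk p fun i => eval₂Hom κ (crd (WittGrp.truncMap p n φ c)) (P i) := by
    intro A _ κ φ hφ c
    refine TruncatedWittVector.ext fun i => ?_
    rw [WittGrp.coeff_truncMap, TruncatedWittVector.coeff_mk, TruncatedWittVector.coeff_mk, ← hφ]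
    refine congr($(MvPolynomial.ringHom_ext (f := φ.comp (eval₂Hom (C : k →+* U) (crd c)))
      (g := eval₂Hom (φ.comp C) (crd (WittGrp.truncMap p n φ c))) (fun r => ?_) fun j => ?_) (P i))
    · simp
    · simp [crd]
  have huniv : ev (a + b) = ev a + ev b := by
    refine TruncatedWittVector.ext fun i => MvPolynomial.funext fun c => ?_
    rw [← WittGrp.coeff_truncMap (p := p) (n := m) (eval c), ← WittGrp.coeff_truncMap (p := p) (n := m) (eval c),
      map_add, hev (RingHom.id k) (eval c) (RingHom.ext fun r => eval_C r), hev (RingHom.id k) (eval c) (RingHom.ext fun r => eval_C r),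
      hev (RingHom.id k) (eval c) (RingHom.ext fun r => eval_C r)]
    have key : ∀ d : TW p n k, (TruncatedWittVector.mk p fun i => eval₂Hom (RingHom.id k) (crd d) (P i)) =
        act (ofPoly P) d := fun d => TruncatedWittVector.ext fun i => by
      rw [TruncatedWittVector.coeff_mk, act, crd_val_comp_ofPoly, val_pt]; rfl
    rw [key, key, key, map_add, hadd]
  have hmul : ∀ (T : Over Sk) (x y : T ⟶ WittGrp.W p n Sk),
      (x * y) ≫ ofPoly P = (x ≫ ofPoly P) * (y ≫ ofPoly P) := by
    intro T x y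
    refine WittGrp.pts_injective p T ?_
    show WittGrp.pts p T (Additive.ofMul _) = WittGrp.pts p T (Additive.ofMul _)
    let φ : U →+* Γ(T.left, ⊤) := eval₂Hom (kΓ T) (Sum.elim (crd (WittGrp.pts p T (Additive.ofMul x)))
      (crd (WittGrp.pts p T (Additive.ofMul y))))
    have ha : WittGrp.truncMap p n φ a = WittGrp.pts p T (Additive.ofMul x) := TruncatedWittVector.ext fun i => by
      simp only [a, WittGrp.coeff_truncMap, TruncatedWittVector.coeff_mk]
      exact eval₂Hom_X' _ _ (Sum.inl i)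
    have hb : WittGrp.truncMap p n φ b = WittGrp.pts p T (Additive.ofMul y) := TruncatedWittVector.ext fun i => by
      simp only [b, WittGrp.coeff_truncMap, TruncatedWittVector.coeff_mk]
      exact eval₂Hom_X' _ _ (Sum.inr i)
    have hT : ∀ z : T ⟶ WittGrp.W p n Sk, WittGrp.pts p T (Additive.ofMul (z ≫ ofPoly P)) =
        TruncatedWittVector.mk p fun i => eval₂Hom (kΓ T) (crd (WittGrp.pts p T (Additive.ofMul z))) (P i) :=
      fun z => TruncatedWittVector.ext fun i => by
        rw [coeff_comp_ofPoly, TruncatedWittVector.coeff_mk]; rfl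
    have hφ : φ.comp C = kΓ T := RingHom.ext fun r => eval₂Hom_C _ _ r
    rw [WittGrp.pts_mul, hT, hT, hT, WittGrp.pts_mul, ← ha, ← hb, ← map_add, ← hev _ φ hφ, ← hev _ φ hφ,
      ← hev _ φ hφ, ← map_add, huniv]
  refine WittGrp.isMonHom_of_comp_mul _ ?_ hmul
  have h := hmul (𝟙_ (Over Sk)) 1 1
  rw [_root_.one_mul] at h
  exact left_eq_mul.1 h

theorem exists_hom (φ : TW p n k → TW p m k) (hφ : IsPoly φ) (hadd : ∀ v w, φ (v + w) = φ v + φ w) :
    ∃ f : WittGrp.W p n Sk ⟶ WittGrp.W p m Sk, IsMonHom f ∧ ∀ v, act f v = φ v := by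
  obtain ⟨G, hG⟩ := hφ
  have h : ∀ v, act (ofPoly fun i => G.coeff i) v = φ v := fun v => TruncatedWittVector.ext fun i => by
    rw [act, crd_val_comp_ofPoly, val_pt, hG, evMap, WittGrp.coeff_truncMap]
  exact ⟨_, isMonHom_of_act _ (fun v w => by rw [h, h, h, hadd]), h⟩

end Groth.Agent.WittHom
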