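import Groth.Agent.WittHom.Maps
import Groth.Agent.WittHom.AddPoly

/-!
# The endomorphisms of truncated Witt vectors given by polynomials
-/

set_option autoImplicit false
universe u

noncomputable section

namespace Groth.Agent.WittHom

open Groth.Agent.WittSub (LowZero lowZero_shift lowZero_nsmul lowZero_add exists_shift)

variable {p : ℕ} [hp : Fact p.Prime] {k : Type u} [Field k] {n : ℕ}

/-- The shift `W_n → W_(n+1)`. -/
def Vup (n : ℕ) : TW p n k →+ TW p (n + 1) k := WittGrp.shift p (Nat.le_succ n)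

/-- The shift followed by restriction. -/
def Vt (n : ℕ) : TW p n k →+ TW p n k :=
  (TruncatedWittVector.truncate (Nat.le_succ n)).toAddMonoidHom.comp (Vup n)

theorem coeff_Vup (x : TW p n k) (i : Fin (n + 1)) :
    (Vup n x).coeff i = if h : 1 ≤ (i : ℕ) then x.coeff ⟨(i : ℕ) - 1, by omega⟩ else 0 := by
  rw [Vup, WittGrp.coeff_shift]
  split_ifs with h1 h2 h2
  · congr 1
    ext
    simp only
    omega
  · omega
  · omega
  · rfl

theorem coeff_Vt (x : TW p n k) (i : Fin n) :
    (Vt n x).coeff i = if h : 1 ≤ (i : ℕ) then x.coeff ⟨(i : ℕ) - 1, by omega⟩ else 0 := by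
  rw [Vt, AddMonoidHom.comp_apply]
  show (TruncatedWittVector.truncate (Nat.le_succ n) (Vup n x)).coeff i = _
  rw [TruncatedWittVector.coeff_truncate, coeff_Vup]
  rfl

theorem Vup_truncate (v : TW p (n + 1) k) :
    Vup n (TruncatedWittVector.truncate (Nat.le_succ n) v) = Vt (n + 1) v :=
  TruncatedWittVector.ext fun i => by
    rw [coeff_Vup, coeff_Vt]
    split_ifs
    · rw [TruncatedWittVector.coeff_truncate]; rfl
    · rfl

theorem truncate_Vt (v : TW p (n + 1) k) :
    TruncatedWittVector.truncate (Nat.le_succ n) (Vt (n + 1) v) =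
      Vt n (TruncatedWittVector.truncate (Nat.le_succ n) v) :=
  TruncatedWittVector.ext fun i => by
    rw [TruncatedWittVector.coeff_truncate, coeff_Vt, coeff_Vt]
    simp only [Fin.val_castLE]
    split_ifs
    · rw [TruncatedWittVector.coeff_truncate]; rfl
    · rfl

theorem Vup_Vt (x : TW p n k) : Vup n (Vt n x) = Vt (n + 1) (Vup n x) :=
  TruncatedWittVector.ext fun i => by
    rw [coeff_Vup, coeff_Vt]
    split_ifs with h
    · rw [coeff_Vt, coeff_Vup]
    · rfl

variable [CharP k p]

/-- The standard endomorphisms. -/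
def gen (n : ℕ) : ℕ → ℕ → TW p n k → (TW p n k →+ TW p n k)
  | 0, j, c => (AddMonoidHom.mulLeft c).comp (FrI n j).toAddMonoidHom
  | i + 1, j, c => (Vt n).comp (gen n i j c)

theorem gen_zero (j : ℕ) (c v : TW p n k) : gen n 0 j c v = c * FrI n j v := rfl

theorem gen_succ (i j : ℕ) (c v : TW p n k) : gen n (i + 1) j c v = Vt n (gen n i j c v) := rfl

theorem isPoly_gen (i j : ℕ) (c : TW p n k) : IsPoly (gen n i j c) := by
  induction i with
  | zero => exact (isPoly_const c).mul (isPoly_id.frI j)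
  | succ i ih => exact (ih.shift (Nat.le_succ n)).truncate (Nat.le_succ n)

/-- Sums of standard endomorphisms. -/
inductive Std (n : ℕ) : (TW p n k →+ TW p n k) → Prop
  | gen (i j : ℕ) (c : TW p n k) : Std n (gen n i j c)
  | zero : Std n 0
  | add (f g : TW p n k →+ TW p n k) : Std n f → Std n g → Std n (f + g)

theorem Std.sum {ι : Type*} (s : Finset ι) (f : ι → TW p n k →+ TW p n k) (h : ∀ a ∈ s, Std n (f a)) :
    Std n (∑ a ∈ s, f a) :=
  Finset.sum_induction f (Std n) Std.add Std.zero h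

theorem Std.isPoly {f : TW p n k →+ TW p n k} (h : Std n f) : IsPoly f := by
  induction h with
  | gen i j c => exact isPoly_gen i j c
  | zero => exact isPoly_const 0
  | add f g _ _ hf hg => exact hf.add hg

theorem truncate_gen (i j : ℕ) (c : TW p (n + 1) k) (v : TW p (n + 1) k) :
    TruncatedWittVector.truncate (Nat.le_succ n) (gen (n + 1) i j c v) =
      gen n i j (TruncatedWittVector.truncate (Nat.le_succ n) c)
        (TruncatedWittVector.truncate (Nat.le_succ n) v) := by
  induction i with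
  | zero => rw [gen_zero, gen_zero, map_mul, truncate_FrI]
  | succ i ih => rw [gen_succ, gen_succ, truncate_Vt, ih]

theorem Vup_gen (i j : ℕ) (c : TW p n k) (c' : TW p (n + 1) k)
    (hc : TruncatedWittVector.truncate (Nat.le_succ n) (Fr (n + 1) c') = c) (x : TW p n k) :
    gen (n + 1) i j c' (Vup n x) = Vup n (gen n i j c x) := by
  induction i with
  | zero =>
    rw [gen_zero, gen_zero, Vup, FrI_shift, mul_shift]
    have e : FrI (n + 1) (n + 1 - n) c' = Fr (n + 1) c' := by
      rw [Nat.add_sub_cancel_left]; rfl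
    rw [e, hc]
  | succ i ih => rw [gen_succ, gen_succ, Vup_Vt, ih]

theorem Std.lift_R {φ : TW p n k →+ TW p n k} (h : Std n φ) :
    ∃ Φ : TW p (n + 1) k →+ TW p (n + 1) k, Std (n + 1) Φ ∧ ∀ v,
      TruncatedWittVector.truncate (Nat.le_succ n) (Φ v) = φ (TruncatedWittVector.truncate (Nat.le_succ n) v) := by
  induction h with
  | gen i j c =>
    exact ⟨_, Std.gen i j (pad (n + 1) c), fun v => by rw [truncate_gen, truncate_pad]⟩
  | zero => exact ⟨0, Std.zero, fun v => by simp⟩
  | add f g _ _ hf hg =>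
    obtain ⟨F, hF, hF'⟩ := hf
    obtain ⟨G, hG, hG'⟩ := hg
    exact ⟨F + G, Std.add _ _ hF hG, fun v => by simp [hF', hG']⟩

theorem Std.lift_V [PerfectRing k p] {φ : TW p n k →+ TW p n k} (h : Std n φ) :
    ∃ Φ : TW p (n + 1) k →+ TW p (n + 1) k, Std (n + 1) Φ ∧ ∀ v, Φ (Vup n v) = Vup n (φ v) := by
  induction h with
  | gen i j c =>
    obtain ⟨c', hc'⟩ := FrI_surjective (p := p) (k := k) 1 (pad (n + 1) c)
    have hc : TruncatedWittVector.truncate (Nat.le_succ n) (Fr (n + 1) c') = c := by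
      rw [show Fr (n + 1) c' = FrI (n + 1) 1 c' from rfl, hc', truncate_pad]
    exact ⟨_, Std.gen i j c', Vup_gen i j c c' hc⟩
  | zero => exact ⟨0, Std.zero, fun v => by simp⟩
  | add f g _ _ hf hg =>
    obtain ⟨F, hF, hF'⟩ := hf
    obtain ⟨G, hG, hG'⟩ := hg
    exact ⟨F + G, Std.add _ _ hF hG, fun v => by simp [hF', hG']⟩

theorem Std.Vup_comp {φ : TW p n k →+ TW p n k} (h : Std n φ) :
    ∃ Φ : TW p (n + 1) k →+ TW p (n + 1) k, Std (n + 1) Φ ∧ ∀ v,
      Φ v = Vup n (φ (TruncatedWittVector.truncate (Nat.le_succ n) v)) := by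
  induction h with
  | gen i j c =>
    refine ⟨_, Std.gen (i + 1) j (pad (n + 1) c), fun v => ?_⟩
    rw [gen_succ, ← Vup_truncate, truncate_gen, truncate_pad]
  | zero => exact ⟨0, Std.zero, fun v => by simp⟩
  | add f g _ _ hf hg =>
    obtain ⟨F, hF, hF'⟩ := hf
    obtain ⟨G, hG, hG'⟩ := hg
    exact ⟨F + G, Std.add _ _ hF hG, fun v => by simp [hF', hG']⟩

/-- The bottom layer. -/
def emb (n : ℕ) (t : k) : TW p (n + 1) k :=
  WittGrp.shift p (Nat.le_add_left 1 n) (TruncatedWittVector.mk p fun _ : Fin 1 => t)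

theorem coeff_emb (t : k) (i : Fin (n + 1)) : (emb (p := p) n t).coeff i = if (i : ℕ) = n then t else 0 := by
  rw [emb, WittGrp.coeff_shift]
  split_ifs with h1 h2 h2
  · rw [TruncatedWittVector.coeff_mk]
  · omega
  · omega
  · rfl

theorem lowZero_emb (t : k) : LowZero n (emb (p := p) n t) := fun i hi => by
  rw [coeff_emb, if_neg (by omega)]

theorem emb_coeff {v : TW p (n + 1) k} (hv : LowZero n v) : emb n (v.coeff (Fin.last n)) = v :=
  TruncatedWittVector.ext fun i => by
    rw [coeff_emb]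
    split_ifs with h
    · rw [show i = Fin.last n from Fin.ext h]
    · exact (hv i (by omega)).symm

theorem emb_add (s t : k) : emb (p := p) n (s + t) = emb n s + emb n t := by
  rw [emb, emb, emb, ← map_add]
  congr 1
  refine TruncatedWittVector.ext fun i => ?_
  rw [WittSub.coeff_add_zero _ _ i (by omega), TruncatedWittVector.coeff_mk, TruncatedWittVector.coeff_mk,
    TruncatedWittVector.coeff_mk]

theorem coeff_mul_zero {R : Type u} [CommRing R] {m : ℕ} (x y : TruncatedWittVector p m R) (i : Fin m) (hi : (i : ℕ) = 0) :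
    (x * y).coeff i = x.coeff i * y.coeff i := by
  obtain ⟨X, rfl⟩ := WittVector.truncate_surjective p m R x
  obtain ⟨Y, rfl⟩ := WittVector.truncate_surjective p m R y
  rw [← map_mul, WittVector.coeff_truncate, WittVector.coeff_truncate, WittVector.coeff_truncate, hi,
    WittVector.mul_coeff_zero]

theorem mul_emb (c : TW p (n + 1) k) (t : k) : c * emb n t = emb n (c.coeff 0 ^ p ^ n * t) := by
  rw [emb, mul_shift, emb]
  congr 1
  refine TruncatedWittVector.ext fun i => ?_
  rw [coeff_mul_zero _ _ i (by omega), TruncatedWittVector.coeff_mk, TruncatedWittVector.coeff_mk,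
    TruncatedWittVector.coeff_truncate, coeff_FrI, Nat.add_sub_cancel]
  congr 3
  exact Fin.ext (by simp)

theorem FrI_emb (j : ℕ) (t : k) : FrI (n + 1) j (emb n t) = emb (p := p) n (t ^ p ^ j) := by
  rw [emb, FrI_shift, emb]
  congr 1
  exact TruncatedWittVector.ext fun i => by
    rw [coeff_FrI, TruncatedWittVector.coeff_mk, TruncatedWittVector.coeff_mk]

variable [Infinite k] [PerfectRing k p]

/-- An additive polynomial map on the bottom layer is a sum of Frobenius powers. -/
theorem exists_bottom (φ : TW p (n + 1) k →+ TW p (n + 1) k) (hφ : IsPoly φ) :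
    ∃ (N : ℕ) (a : ℕ → k), ∀ t, φ (emb n t) = emb n (∑ j ∈ Finset.range N, a j * t ^ p ^ j) := by
  obtain ⟨G, hG⟩ := hφ.comp ((isPoly_id (n := 1)).shift (Nat.le_add_left 1 n))
  let P : Polynomial k := MvPolynomial.aeval (fun _ : Fin 1 => Polynomial.X) (G.coeff (Fin.last n))
  have hP : ∀ t, P.eval t = (φ (emb n t)).coeff (Fin.last n) := fun t => by
    rw [show φ (emb n t) = evMap G (TruncatedWittVector.mk p fun _ : Fin 1 => t) from hG _, evMap,
      WittGrp.coeff_truncMap]
    refine congr($(MvPolynomial.ringHom_ext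
      (f := (Polynomial.evalRingHom t).comp
        (MvPolynomial.aeval (R := k) (fun _ : Fin 1 => (Polynomial.X : Polynomial k))).toRingHom)
      (g := MvPolynomial.eval (crd (TruncatedWittVector.mk p fun _ : Fin 1 => t))) (fun r => ?_) fun j => ?_) _)
    · simp
    · simp [crd]
  have hlow : ∀ t, LowZero n (φ (emb n t)) := fun t => map_lowZero φ (lowZero_emb t)
  have hadd : ∀ s t, P.eval (s + t) = P.eval s + P.eval t := fun s t => by
    rw [hP, hP, hP, emb_add, map_add]
    exact (lowZero_add (Nat.le_succ n) (hlow s) (hlow t)).2 _ rfl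
  obtain ⟨N, a, ha⟩ := exists_sum_of_additive p hadd
  exact ⟨N, a, fun t => by rw [← ha, hP, emb_coeff (hlow t)]⟩

/-- Endomorphisms of `W_1` lift to standard endomorphisms of any length. -/
theorem exists_std_bottom (n N : ℕ) (a : ℕ → k) :
    ∃ Φ : TW p (n + 1) k →+ TW p (n + 1) k, Std (n + 1) Φ ∧
      ∀ t, Φ (emb n t) = emb n (∑ j ∈ Finset.range N, a j * t ^ p ^ j) := by
  induction N with
  | zero =>
    refine ⟨0, Std.zero, fun t => ?_⟩
    rw [Finset.sum_range_zero, AddMonoidHom.zero_apply]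
    refine TruncatedWittVector.ext fun i => ?_
    rw [coeff_emb, TruncatedWittVector.coeff_zero, ite_self]
  | succ N ih =>
    obtain ⟨Φ, hΦ, h⟩ := ih
    let c : TW p (n + 1) k := pad (n + 1) (TruncatedWittVector.mk p fun _ : Fin 1 => (iterateFrobeniusEquiv k p n).symm (a N))
    refine ⟨Φ + gen (n + 1) 0 N c, Std.add _ _ hΦ (Std.gen 0 N c), fun t => ?_⟩
    rw [AddMonoidHom.add_apply, h, gen_zero, FrI_emb, mul_emb, Finset.sum_range_succ, emb_add]
    congr 3
    have : c.coeff 0 = (iterateFrobeniusEquiv k p n).symm (a N) := by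
      simp [c, pad]
    rw [this]
    exact (iterateFrobeniusEquiv k p n).apply_symm_apply _

/-- Every polynomial endomorphism is standard. -/
theorem std_of_endo : ∀ (n : ℕ) (φ : TW p n k →+ TW p n k), IsPoly φ → Std n φ
  | 0, φ, _ => by
    have : φ = 0 := AddMonoidHom.ext fun v => TruncatedWittVector.ext fun i => i.elim0
    exact this ▸ Std.zero
  | n + 1, φ, hφ => by
    obtain ⟨N, a, ha⟩ := exists_bottom φ hφ
    obtain ⟨Φ, hΦ, hΦe⟩ := exists_std_bottom (p := p) n N a
    let χ₀ : TW p (n + 1) k →+ TW p (n + 1) k := φ - Φ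
    have hker : ∀ v, χ₀ v = χ₀ (pad (n + 1) (TruncatedWittVector.truncate (Nat.le_succ n) v)) := fun v => by
      rw [← sub_eq_zero, ← map_sub, ← emb_coeff (lowZero_sub_pad (Nat.le_succ n) v)]
      show φ (emb n _) - Φ (emb n _) = 0
      rw [ha, hΦe, sub_self]
    let χ := factorR χ₀ (Nat.le_succ n) hker
    have hlow : ∀ z, LowZero (n + 1 - n) (χ z) := fun z => lowZero_of_comp χ le_rfl z
    let χ' := factorV χ (Nat.le_succ n) hlow
    have hχ' : IsPoly χ' :=
      (isPoly_tail (Nat.le_succ n)).comp ((hφ.comp isPoly_pad).sub (hΦ.isPoly.comp isPoly_pad))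
    obtain ⟨Ψ, hΨ, hΨv⟩ := (std_of_endo n χ' hχ').Vup_comp
    have : φ = Φ + Ψ := AddMonoidHom.ext fun v => by
      rw [AddMonoidHom.add_apply, hΨv]
      show φ v = Φ v + WittGrp.shift p _ (factorV χ _ hlow _)
      rw [factorV_spec, factorR_spec]
      show φ v = Φ v + (φ v - Φ v)
      rw [add_sub_cancel]
    exact this ▸ Std.add _ _ hΦ hΨ

end Groth.Agent.WittHom
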