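import Groth.Agent.WittHom.Endo
import Groth.Agent.MonoFactor.Points
import Groth.Agent.LimDesc.FPCancel
import Groth.Prelude.Def_SGA7IX
import Mathlib.AlgebraicGeometry.AlgClosed.Basic
import Mathlib.AlgebraicGeometry.Morphisms.QuasiFinite
import Mathlib.FieldTheory.IsAlgClosed.Basic

/-!
# Isogenies of Witt groups on rational points
-/

set_option autoImplicit false
universe u

noncomputable section

namespace Groth.Agent.WittHom

open CategoryTheory CategoryTheory.Limits MonoidalCategory CartesianMonoidalCategory MonObj AlgebraicGeometry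
open Groth.Agent.WittSub (LowZero lowZero_nsmul lowZero_add exists_shift val val_injective)

variable {p : ℕ} [hp : Fact p.Prime] {k : Type u} [Field k] [CharP k p] [IsAlgClosed k] {n : ℕ}

/-- The polynomial giving the first component on the first component. -/
theorem exists_lead (φ : TW p (n + 1) k →+ TW p (n + 1) k) (hφ : IsPoly φ) :
    ∃ P : Polynomial k, ∀ v, (φ v).coeff 0 = P.eval (v.coeff 0) := by
  obtain ⟨G, hG⟩ := hφ.comp (isPoly_pad (n := 1))
  refine ⟨MvPolynomial.aeval (fun _ : Fin 1 => Polynomial.X) (G.coeff 0), fun v => ?_⟩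
  obtain ⟨u, hu⟩ := exists_pow_smul (lowZero_sub_pad (Nat.le_add_left 1 n) v)
  have h1 : LowZero 1 (φ (v - pad (n + 1) (TruncatedWittVector.truncate (Nat.le_add_left 1 n) v))) :=
    map_lowZero φ (lowZero_sub_pad _ v)
  have h2 : (φ v).coeff 0 = (φ (pad (n + 1) (TruncatedWittVector.truncate (Nat.le_add_left 1 n) v))).coeff 0 := by
    have h := h1 0 (by simp)
    rw [map_sub] at h
    have e : φ v = (φ v - φ (pad (n + 1) (TruncatedWittVector.truncate (Nat.le_add_left 1 n) v))) +
        φ (pad (n + 1) (TruncatedWittVector.truncate (Nat.le_add_left 1 n) v)) := (sub_add_cancel _ _).symm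
    conv_lhs => rw [e, WittSub.coeff_add_zero _ _ 0 (by simp), h, zero_add]
  rw [h2, show φ (pad (n + 1) (TruncatedWittVector.truncate (Nat.le_add_left 1 n) v)) =
    evMap G (TruncatedWittVector.truncate (Nat.le_add_left 1 n) v) from hG _, evMap, WittGrp.coeff_truncMap]
  symm
  refine congr($(MvPolynomial.ringHom_ext
    (f := (Polynomial.evalRingHom (v.coeff 0)).comp
      (MvPolynomial.aeval (R := k) (fun _ : Fin 1 => (Polynomial.X : Polynomial k))).toRingHom)
    (g := MvPolynomial.eval (crd (TruncatedWittVector.truncate (Nat.le_add_left 1 n) v))) (fun r => ?_) fun j => ?_) _)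
  · simp
  · simp only [crd, RingHom.comp_apply, AlgHom.toRingHom_eq_coe, RingHom.coe_coe, MvPolynomial.aeval_X,
      Polynomial.coe_evalRingHom, Polynomial.eval_X, MvPolynomial.eval_X, TruncatedWittVector.coeff_truncate]
    congr 1
    exact Fin.ext (by simp)

/-- An endomorphism which does not kill the first component is onto with finite kernel. -/
theorem surjective_finite_of_lead (φ : TW p (n + 1) k →+ TW p (n + 1) k) (hφ : IsPoly φ)
    (h : ∃ v, (φ v).coeff 0 ≠ 0) : Function.Surjective φ ∧ {v | φ v = 0}.Finite := by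
  obtain ⟨P, hP⟩ := exists_lead φ hφ
  have hP0 : P.eval 0 = 0 := by
    have := hP 0
    rwa [map_zero, TruncatedWittVector.coeff_zero, eq_comm] at this
  have hne : P ≠ 0 := by
    rintro rfl
    obtain ⟨v, hv⟩ := h
    exact hv (by rw [hP, Polynomial.eval_zero])
  have hdeg : P.degree ≠ 0 := by
    intro hd
    have hc := Polynomial.eq_C_of_degree_le_zero hd.le
    rw [hc, Polynomial.eval_C] at hP0
    exact hne (by rw [hc, hP0, Polynomial.C_0])
  have key : ∀ (s : Fin (n + 1)) (u : TW p (n + 1) k),
      LowZero s (φ ((p ^ (s : ℕ)) • u)) ∧ ((p ^ (s : ℕ)) • u).coeff s = u.coeff 0 ^ p ^ (s : ℕ) ∧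
        (φ ((p ^ (s : ℕ)) • u)).coeff s = P.eval (u.coeff 0) ^ p ^ (s : ℕ) := by
    intro s u
    have h0 : ∀ w : TW p (n + 1) k, LowZero 0 w := fun w i hi => absurd hi (Nat.not_lt_zero _)
    rw [map_nsmul]
    refine ⟨?_, (lowZero_nsmul _ (h0 u)).2 s 0 (by simp) rfl, ?_⟩
    · simpa only [zero_add] using (lowZero_nsmul (s : ℕ) (h0 (φ u))).1
    · rw [← hP]
      exact (lowZero_nsmul _ (h0 (φ u))).2 s 0 (by simp) rfl
  constructor
  · suffices ∀ d s, n + 1 ≤ s + d → ∀ w, LowZero s w → ∃ v, φ v = w from
      fun w => this (n + 1) 0 (by omega) w fun i hi => absurd hi (Nat.not_lt_zero _)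
    intro d
    induction d with
    | zero =>
      intro s hs w hw
      refine ⟨0, ?_⟩
      rw [map_zero]
      exact TruncatedWittVector.ext fun i => by rw [hw i (by omega), TruncatedWittVector.coeff_zero]
    | succ d ih =>
      intro s hs w hw
      rcases lt_or_ge s (n + 1) with hsn | hsn
      · obtain ⟨c, hc⟩ := IsAlgClosed.exists_pow_nat_eq (w.coeff ⟨s, hsn⟩) (pow_pos hp.out.pos s)
        obtain ⟨t, ht⟩ := IsAlgClosed.exists_root (P - Polynomial.C c) (by
          rw [Polynomial.degree_sub_C (by rw [← Polynomial.natDegree_pos_iff_degree_pos]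
                                          exact Nat.pos_of_ne_zero fun h0 => hdeg (by
                                            rw [Polynomial.degree_eq_natDegree hne, h0]; rfl))]
          exact hdeg)
        have ht' : P.eval t = c := by
          rwa [Polynomial.IsRoot.def, Polynomial.eval_sub, Polynomial.eval_C, sub_eq_zero] at ht
        let u : TW p (n + 1) k := TruncatedWittVector.mk p fun _ => t
        obtain ⟨h1, -, h3⟩ := key ⟨s, hsn⟩ u
        rw [TruncatedWittVector.coeff_mk, ht', hc] at h3
        have hd : LowZero s (w - φ ((p ^ s) • u)) := by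
          rw [lowZero_iff_truncate hsn.le, map_sub, (lowZero_iff_truncate hsn.le _).1 hw,
            (lowZero_iff_truncate hsn.le _).1 h1, sub_zero]
        have hd' : LowZero (s + 1) (w - φ ((p ^ s) • u)) := by
          intro i hi
          rcases (Nat.lt_succ_iff.1 hi).lt_or_eq with hlt | heq
          · exact hd i hlt
          · have hadd := (lowZero_add hsn.le hd h1).2 i heq
            obtain rfl : i = ⟨s, hsn⟩ := Fin.ext heq
            rw [sub_add_cancel, h3] at hadd
            simpa using hadd.symm
        obtain ⟨v, hv⟩ := ih (s + 1) (by omega) _ hd'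
        exact ⟨v + (p ^ s) • u, by rw [map_add, hv, sub_add_cancel]⟩
      · exact ih (s + 1) (by omega) w fun i hi => hw i (by omega)
  · suffices ∀ d s, n + 1 ≤ s + d → {v | LowZero s v ∧ φ v = 0}.Finite from
      (this (n + 1) 0 (by omega)).subset fun v hv => ⟨fun i hi => absurd hi (Nat.not_lt_zero _), hv⟩
    intro d
    induction d with
    | zero =>
      intro s hs
      refine (Set.finite_singleton 0).subset fun v hv => TruncatedWittVector.ext fun i => ?_
      rw [hv.1 i (by omega), TruncatedWittVector.coeff_zero]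
    | succ d ih =>
      intro s hs
      rcases lt_or_ge s (n + 1) with hsn | hsn
      · refine Set.Finite.of_finite_fibers (fun v => v.coeff ⟨s, hsn⟩) ?_ fun c hc => ?_
        · refine (((Polynomial.finite_setOfPred_isRoot hne)).image fun t => t ^ p ^ s).subset ?_
          rintro _ ⟨v, ⟨hv, hv0⟩, rfl⟩
          obtain ⟨u, rfl⟩ := exists_pow_smul hv
          obtain ⟨-, h2, h3⟩ := key ⟨s, hsn⟩ u
          rw [hv0, TruncatedWittVector.coeff_zero, eq_comm, pow_eq_zero_iff (pow_ne_zero _ hp.out.ne_zero)] at h3
          exact ⟨u.coeff 0, h3, h2.symm⟩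
        · obtain ⟨v₀, ⟨hv₀, hv₀0⟩, rfl⟩ := hc
          refine ((ih (s + 1) (by omega)).image fun z => z + v₀).subset ?_
          rintro v ⟨⟨hv, hv0⟩, hvc⟩
          refine ⟨v - v₀, ⟨?_, by rw [map_sub, hv0, hv₀0, sub_zero]⟩, sub_add_cancel _ _⟩
          have hd : LowZero s (v - v₀) := by
            rw [lowZero_iff_truncate hsn.le, map_sub, (lowZero_iff_truncate hsn.le _).1 hv,
              (lowZero_iff_truncate hsn.le _).1 hv₀, sub_zero]
          intro i hi
          rcases (Nat.lt_succ_iff.1 hi).lt_or_eq with hlt | heq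
          · exact hd i hlt
          · have hadd := (lowZero_add hsn.le hd hv₀).2 i heq
            obtain rfl : i = ⟨s, hsn⟩ := Fin.ext heq
            rw [sub_add_cancel, show v.coeff ⟨s, hsn⟩ = v₀.coeff ⟨s, hsn⟩ from hvc] at hadd
            simpa using hadd.symm
      · exact (ih (s + 1) (by omega)).subset fun v hv => ⟨fun i hi => hv.1 i (by omega), hv.2⟩

/-- Every endomorphism is onto with finite kernel or factors through shift and restriction. -/
theorem surjective_finite_or_factor (φ : TW p (n + 1) k →+ TW p (n + 1) k) (hφ : IsPoly φ) :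
    (Function.Surjective φ ∧ {v | φ v = 0}.Finite) ∨
      ∃ χ : TW p n k →+ TW p n k, IsPoly χ ∧
        ∀ v, φ v = Vup n (χ (TruncatedWittVector.truncate (Nat.le_succ n) v)) := by
  by_cases h : ∃ v, (φ v).coeff 0 ≠ 0
  · exact Or.inl (surjective_finite_of_lead φ hφ h)
  · push Not at h
    have hlow : ∀ v, LowZero (n + 1 - n) (φ v) := fun v i hi => by
      obtain rfl : i = 0 := Fin.ext (by simp only [Fin.val_zero]; omega)
      exact h v
    let χ₀ := factorV φ (Nat.le_succ n) hlow
    have hker : ∀ v, χ₀ v = χ₀ (pad (n + 1) (TruncatedWittVector.truncate (Nat.le_succ n) v)) :=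
      map_eq_of_truncate χ₀ (Nat.le_succ n) le_rfl
    refine Or.inr ⟨factorR χ₀ (Nat.le_succ n) hker,
      ((isPoly_tail (Nat.le_succ n)).comp hφ).comp isPoly_pad, fun v => ?_⟩
    rw [factorR_spec]
    exact (factorV_spec φ (Nat.le_succ n) hlow v).symm

local notation "Sk" => Spec (CommRingCat.of k)

theorem isAffine_W (m : ℕ) : IsAffine (WittGrp.W p m Sk).left := by
  change IsAffine 𝔸(ULift.{u} (Fin m); Sk)
  infer_instance

theorem locallyOfFinitePresentation_W (m : ℕ) : LocallyOfFinitePresentation (WittGrp.W p m Sk).hom := by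
  change LocallyOfFinitePresentation (𝔸(ULift.{u} (Fin m); Sk) ↘ Sk)
  infer_instance

variable {m : ℕ}

/-- A homomorphism surjective on rational points is surjective. -/
theorem surjective_of_act (f : WittGrp.W p n Sk ⟶ WittGrp.W p m Sk) (h : Function.Surjective (act f)) :
    Surjective f.left := by
  haveI := isAffine_W (p := p) (k := k) n
  haveI := isAffine_W (p := p) (k := k) m
  haveI := locallyOfFinitePresentation_W (p := p) (k := k) n
  haveI := locallyOfFinitePresentation_W (p := p) (k := k) m
  haveI : LocallyOfFinitePresentation (f.left ≫ (WittGrp.W p m Sk).hom) := by rw [Over.w]; infer_instance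
  haveI : LocallyOfFiniteType (WittGrp.W p m Sk).hom := inferInstance
  haveI : LocallyOfFinitePresentation f.left :=
    LimDesc.lfp_of_comp f.left (WittGrp.W p m Sk).hom
  haveI : JacobsonSpace (WittGrp.W p m Sk).left := LocallyOfFiniteType.jacobsonSpace (WittGrp.W p m Sk).hom
  refine MonoFactor.surjective_of_closedPoints f.left fun y hy => ?_
  let q := (pointEquivClosedPoint (WittGrp.W p m Sk).hom).symm ⟨y, hy⟩
  let x : 𝟙_ (Over Sk) ⟶ WittGrp.W p m Sk := Over.homMk q.1 q.2
  obtain ⟨v, hv⟩ := h (val x)
  have hx : pt v ≫ f = x := val_injective (by rw [← hv, val_comp_eq_act, val_pt])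
  refine ⟨(pt v).left (IsLocalRing.closedPoint k), ?_⟩
  have hq : q.1 (IsLocalRing.closedPoint k) = y :=
    congrArg Subtype.val ((pointEquivClosedPoint (WittGrp.W p m Sk).hom).apply_symm_apply ⟨y, hy⟩)
  calc f.left ((pt v).left (IsLocalRing.closedPoint k)) = (pt v ≫ f).left (IsLocalRing.closedPoint k) := rfl
    _ = x.left (IsLocalRing.closedPoint k) := by rw [hx]
    _ = y := hq

omit hp [CharP k p] in
/-- Rational points lift along surjections of finite type. -/
theorem exists_lift_point {G Q : Over Sk} [LocallyOfFiniteType G.hom] (f : G ⟶ Q) [Surjective f.left]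
    (y : 𝟙_ (Over Sk) ⟶ Q) : ∃ g : 𝟙_ (Over Sk) ⟶ G, g ≫ f = y := by
  have hid : Spec.map (CommRingCat.ofHom (algebraMap k k)) = 𝟙 Sk := by
    rw [Algebra.algebraMap_self, CommRingCat.ofHom_id, Spec.map_id]
  have hy : y.left ≫ Q.hom = Spec.map (CommRingCat.ofHom (algebraMap k k)) := hid.symm ▸ Over.w y
  obtain ⟨g, hg⟩ := MonoFactor.exists_lift_algClosed_point (K := k) f
    (Over.homMk y.left hy : Over.mk (Spec.map (CommRingCat.ofHom (algebraMap k k))) ⟶ Q)
  refine ⟨Over.homMk g.left ((Over.w g).trans hid), Over.OverMorphism.ext ?_⟩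
  have := congrArg (fun z => z.left) hg
  simpa using this

/-- A surjective homomorphism is surjective on rational points. -/
theorem act_surjective (f : WittGrp.W p n Sk ⟶ WittGrp.W p m Sk) [Surjective f.left] :
    Function.Surjective (act f) := fun w => by
  haveI := locallyOfFinitePresentation_W (p := p) (k := k) n
  obtain ⟨g, hg⟩ := exists_lift_point f (pt w)
  exact ⟨val g, by rw [← val_comp_eq_act, hg, val_pt]⟩

/-- Finitely many rational points in the kernel give a finite kernel. -/
theorem isIsogenyOver_of_act (f : WittGrp.W p n Sk ⟶ WittGrp.W p m Sk) (h : Function.Surjective (act f))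
    (hfin : {v | act f v = 0}.Finite) : SGA7.IsIsogenyOver f := by
  refine ⟨surjective_of_act f h, fun N i hN => ?_⟩
  haveI := isAffine_W (p := p) (k := k) n
  haveI := isAffine_W (p := p) (k := k) m
  haveI := locallyOfFinitePresentation_W (p := p) (k := k) n
  haveI hη : IsClosedImmersion (η[WittGrp.W p m Sk]).left := by
    haveI : IsClosedImmersion ((η[WittGrp.W p m Sk]).left ≫ (WittGrp.W p m Sk).hom) := by
      rw [Over.w]
      exact inferInstanceAs (IsClosedImmersion (𝟙 Sk))
    exact IsClosedImmersion.of_comp _ (WittGrp.W p m Sk).hom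
  have hsq : IsPullback i.left (toUnit N).left f.left (η[WittGrp.W p m Sk]).left := hN.map (Over.forget _)
  haveI hi : IsClosedImmersion i.left := MorphismProperty.of_isPullback hsq.flip hη
  haveI : IsAffine N.left := isAffine_of_isAffineHom i.left
  haveI : LocallyOfFiniteType N.hom := by rw [← Over.w i]; infer_instance
  haveI : JacobsonSpace N.left := LocallyOfFiniteType.jacobsonSpace N.hom
  have hcl : (closedPoints N.left).Finite := by
    let toPt : closedPoints N.left → TW p n k := fun y =>
      val (Over.homMk (U := 𝟙_ (Over Sk)) ((pointEquivClosedPoint N.hom).symm y).1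
        ((pointEquivClosedPoint N.hom).symm y).2 ≫ i)
    have hinj : Function.Injective toPt := fun a b hab => by
      have h1 := congrArg (fun z : 𝟙_ (Over Sk) ⟶ _ => z.left) (val_injective hab)
      simp only [Over.comp_left, Over.homMk_left] at h1
      exact (pointEquivClosedPoint N.hom).symm.injective (Subtype.ext ((cancel_mono i.left).1 h1))
    have hker : ∀ y, toPt y ∈ {v | act f v = 0} := fun y => by
      show act f (toPt y) = 0
      rw [← val_comp_eq_act, Category.assoc, hN.w, ← Category.assoc, toUnit_unique (_ ≫ toUnit N) (𝟙 _),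
        Category.id_comp, MonObj.one_eq_one, WittSub.val]
      erw [ofMul_one, map_zero]
      exact map_zero _
    haveI : Finite {v | act f v = 0} := hfin.to_subtype
    exact Set.finite_coe_iff.1 (Finite.of_injective (fun y => (⟨toPt y, hker y⟩ : {v | act f v = 0}))
      fun a b hab => hinj (congrArg Subtype.val hab))
  have huniv : closedPoints N.left = Set.univ := by
    have hc : IsClosed (closedPoints N.left) := by
      rw [← Set.biUnion_of_singleton (closedPoints N.left)]
      exact hcl.isClosed_biUnion fun y hy => hy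
    rw [← hc.closure_eq, closure_closedPoints]
  haveI : Finite N.left := Set.finite_univ_iff.1 (huniv ▸ hcl)
  haveI : LocallyQuasiFinite N.hom := locallyQuasiFinite_iff_finite_preimage_singleton.2 fun x => Set.toFinite _
  exact IsFinite.of_locallyQuasiFinite N.hom

end Groth.Agent.WittHom
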