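import Groth.Agent.WittHom.Basic
import Mathlib.RingTheory.WittVector.Teichmuller
import Mathlib.FieldTheory.Perfect

/-!
# Polynomial maps and the standard endomorphisms of truncated Witt vectors
-/

set_option autoImplicit false
universe u

noncomputable section

namespace Groth.Agent.WittHom

open MvPolynomial
open Groth.Agent.WittSub (LowZero lowZero_shift lowZero_nsmul lowZero_add exists_shift)

variable {p : ℕ} [hp : Fact p.Prime] {k : Type u} [Field k] {n m l : ℕ}

/-! ### Closure properties -/

theorem isPoly_const (c : TW p m k) : IsPoly (fun _ : TW p n k => c) :=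
  ⟨WittGrp.truncMap p m C c, fun v => TruncatedWittVector.ext fun i => by simp [evMap]⟩

theorem isPoly_id : IsPoly (fun v : TW p n k => v) :=
  ⟨TruncatedWittVector.mk p fun i => MvPolynomial.X i, fun v => TruncatedWittVector.ext fun i => by
    simp [evMap, crd]⟩

theorem IsPoly.add {φ ψ : TW p n k → TW p m k} (hφ : IsPoly φ) (hψ : IsPoly ψ) :
    IsPoly (fun v => φ v + ψ v) := by
  obtain ⟨G, hG⟩ := hφ
  obtain ⟨H, hH⟩ := hψ
  exact ⟨G + H, fun v => by simp only [hG, hH, evMap, map_add]⟩

theorem IsPoly.sub {φ ψ : TW p n k → TW p m k} (hφ : IsPoly φ) (hψ : IsPoly ψ) :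
    IsPoly (fun v => φ v - ψ v) := by
  obtain ⟨G, hG⟩ := hφ
  obtain ⟨H, hH⟩ := hψ
  exact ⟨G - H, fun v => by simp only [hG, hH, evMap, map_sub]⟩

theorem IsPoly.mul {φ ψ : TW p n k → TW p m k} (hφ : IsPoly φ) (hψ : IsPoly ψ) :
    IsPoly (fun v => φ v * ψ v) := by
  obtain ⟨G, hG⟩ := hφ
  obtain ⟨H, hH⟩ := hψ
  exact ⟨G * H, fun v => by simp only [hG, hH, evMap, map_mul]⟩

theorem IsPoly.shift {φ : TW p n k → TW p m k} (hφ : IsPoly φ) (h : m ≤ l) :
    IsPoly (fun v => WittGrp.shift p h (φ v)) := by
  obtain ⟨G, hG⟩ := hφ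
  exact ⟨WittGrp.shift p h G, fun v => by simp only [hG, evMap, WittGrp.truncMap_shift]⟩

theorem IsPoly.truncate {φ : TW p n k → TW p l k} (hφ : IsPoly φ) (h : m ≤ l) :
    IsPoly (fun v => TruncatedWittVector.truncate h (φ v)) := by
  obtain ⟨G, hG⟩ := hφ
  exact ⟨TruncatedWittVector.truncate h G, fun v => by simp only [hG, evMap, WittGrp.truncMap_truncateLE]⟩

theorem IsPoly.comp {φ : TW p n k → TW p m k} {ψ : TW p m k → TW p l k} (hψ : IsPoly ψ) (hφ : IsPoly φ) :
    IsPoly (fun v => ψ (φ v)) := by
  obtain ⟨G, hG⟩ := hφ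
  obtain ⟨H, hH⟩ := hψ
  refine ⟨WittGrp.truncMap p l (eval₂Hom C (crd G)) H, fun v => ?_⟩
  show ψ (φ v) = _
  rw [hH, hG]
  refine TruncatedWittVector.ext fun i => ?_
  simp only [evMap, WittGrp.coeff_truncMap]
  refine congr($(MvPolynomial.ringHom_ext (f := eval (crd (WittGrp.truncMap p m (eval (crd v)) G)))
    (g := (eval (crd v)).comp (eval₂Hom (C : k →+* MvPolynomial (Fin n) k) (crd G))) (fun r => ?_) fun j => ?_) _)
  · simp
  · simp [crd]

theorem isPoly_coeff_mk {f : Fin m → MvPolynomial (Fin n) k} :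
    IsPoly (fun v : TW p n k => TruncatedWittVector.mk p fun i => eval (crd v) (f i)) :=
  ⟨TruncatedWittVector.mk p f, fun v => TruncatedWittVector.ext fun i => by simp [evMap]⟩

/-! ### The padding section and the tail -/

/-- Fill with zeros. -/
def pad (m : ℕ) (v : TW p n k) : TW p m k :=
  TruncatedWittVector.mk p fun i => if h : (i : ℕ) < n then v.coeff ⟨i, h⟩ else 0

theorem truncate_pad (h : n ≤ m) (v : TW p n k) : TruncatedWittVector.truncate h (pad m v) = v :=
  TruncatedWittVector.ext fun i => by
    rw [TruncatedWittVector.coeff_truncate, pad, TruncatedWittVector.coeff_mk, dif_pos (by simp)]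
    rfl

theorem isPoly_pad : IsPoly (pad m : TW p n k → TW p m k) :=
  ⟨TruncatedWittVector.mk p fun i => if h : (i : ℕ) < n then MvPolynomial.X ⟨i, h⟩ else 0,
    fun v => TruncatedWittVector.ext fun i => by
      simp only [evMap, pad, WittGrp.coeff_truncMap, TruncatedWittVector.coeff_mk]
      split_ifs <;> simp [crd]⟩

/-- Drop the first `m - n` components. -/
def tail (h : n ≤ m) (v : TW p m k) : TW p n k :=
  TruncatedWittVector.mk p fun i => v.coeff ⟨i + (m - n), by omega⟩

theorem tail_shift (h : n ≤ m) (x : TW p n k) : tail h (WittGrp.shift p h x) = x :=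
  TruncatedWittVector.ext fun i => by
    rw [tail, TruncatedWittVector.coeff_mk, WittGrp.coeff_shift, dif_pos (by simp)]
    congr 1
    ext
    simp

theorem shift_tail (h : n ≤ m) {v : TW p m k} (hv : LowZero (m - n) v) : WittGrp.shift p h (tail h v) = v :=
  TruncatedWittVector.ext fun i => by
    rw [WittGrp.coeff_shift]
    split_ifs with hi
    · rw [tail, TruncatedWittVector.coeff_mk]
      congr 1
      ext
      simp only
      omega
    · exact (hv i (by omega)).symm

theorem shift_injective (h : n ≤ m) : Function.Injective (WittGrp.shift p (R := k) h) :=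
  Function.LeftInverse.injective (g := tail h) (tail_shift h)

theorem isPoly_tail (h : n ≤ m) : IsPoly (tail h : TW p m k → TW p n k) :=
  ⟨TruncatedWittVector.mk p fun i => MvPolynomial.X ⟨i + (m - n), by omega⟩,
    fun v => TruncatedWittVector.ext fun i => by simp [evMap, tail, crd]⟩

theorem lowZero_iff_truncate (h : n ≤ m) (v : TW p m k) :
    LowZero n v ↔ TruncatedWittVector.truncate h v = 0 := by
  constructor
  · intro hv
    refine TruncatedWittVector.ext fun i => ?_
    rw [TruncatedWittVector.coeff_truncate, TruncatedWittVector.coeff_zero]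
    exact hv _ i.2
  · intro hv i hi
    have := congrArg (fun w : TW p n k => w.coeff ⟨i, hi⟩) hv
    simp only [TruncatedWittVector.coeff_truncate, TruncatedWittVector.coeff_zero] at this
    exact this

theorem lowZero_sub_pad (h : n ≤ m) (v : TW p m k) :
    LowZero n (v - pad m (TruncatedWittVector.truncate h v)) := by
  rw [lowZero_iff_truncate h, map_sub, truncate_pad h, sub_self]

variable [CharP k p]

theorem hk : (p : k) = 0 := CharP.cast_eq_zero k p

theorem hk_poly (n : ℕ) : (p : MvPolynomial (Fin n) k) = 0 := by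
  rw [← map_natCast C, hk, map_zero]

/-- Frobenius on truncated Witt vectors. -/
def Fr (n : ℕ) : TW p n k →+* TW p n k := WittGrp.frob p n hk

theorem coeff_Fr (v : TW p n k) (i : Fin n) : (Fr n v).coeff i = v.coeff i ^ p := WittGrp.coeff_frob _ _ _ _ _

theorem IsPoly.frob {φ : TW p n k → TW p m k} (hφ : IsPoly φ) : IsPoly (fun v => Fr m (φ v)) := by
  obtain ⟨G, hG⟩ := hφ
  exact ⟨WittGrp.frob p m (hk_poly n) G, fun v => by
    simp only [hG, evMap, Fr, WittGrp.truncMap_frob p m (hk_poly n) hk]⟩

/-- Iterated Frobenius. -/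
def FrI (n : ℕ) : ℕ → (TW p n k →+* TW p n k)
  | 0 => RingHom.id _
  | j + 1 => (Fr n).comp (FrI n j)

theorem coeff_FrI (j : ℕ) (v : TW p n k) (i : Fin n) : (FrI n j v).coeff i = v.coeff i ^ p ^ j := by
  induction j with
  | zero => simp [FrI]
  | succ j ih => rw [FrI, RingHom.comp_apply, coeff_Fr, ih, ← pow_mul, pow_succ]

theorem FrI_truncate (j : ℕ) (X : WittVector p k) :
    FrI n j (WittVector.truncate n X) = WittVector.truncate n (WittVector.frobenius^[j] X) :=
  TruncatedWittVector.ext fun i => by
    rw [coeff_FrI, WittVector.coeff_truncate, WittVector.coeff_truncate, WittVector.iterate_frobenius_coeff]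

theorem IsPoly.frI {φ : TW p n k → TW p m k} (hφ : IsPoly φ) (j : ℕ) : IsPoly (fun v => FrI m j (φ v)) := by
  induction j with
  | zero => exact hφ
  | succ j ih => exact ih.frob

theorem truncate_Fr (h : n ≤ m) (v : TW p m k) :
    TruncatedWittVector.truncate h (Fr m v) = Fr n (TruncatedWittVector.truncate h v) :=
  TruncatedWittVector.ext fun i => by simp only [TruncatedWittVector.coeff_truncate, coeff_Fr]

theorem truncate_FrI (h : n ≤ m) (j : ℕ) (v : TW p m k) :
    TruncatedWittVector.truncate h (FrI m j v) = FrI n j (TruncatedWittVector.truncate h v) :=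
  TruncatedWittVector.ext fun i => by simp only [TruncatedWittVector.coeff_truncate, coeff_FrI]

theorem FrI_shift (h : n ≤ m) (j : ℕ) (v : TW p n k) :
    FrI m j (WittGrp.shift p h v) = WittGrp.shift p h (FrI n j v) :=
  TruncatedWittVector.ext fun i => by
    rw [coeff_FrI, WittGrp.coeff_shift, WittGrp.coeff_shift]
    split_ifs with hi
    · rw [coeff_FrI]
    · exact zero_pow (pow_ne_zero _ hp.out.ne_zero)

theorem FrI_surjective [PerfectRing k p] (j : ℕ) : Function.Surjective (FrI (p := p) (k := k) n j) := fun v => by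
  refine ⟨TruncatedWittVector.mk p fun i => (iterateFrobeniusEquiv k p j).symm (v.coeff i),
    TruncatedWittVector.ext fun i => ?_⟩
  rw [coeff_FrI, TruncatedWittVector.coeff_mk]
  exact (iterateFrobeniusEquiv k p j).apply_symm_apply _

/-- The projection formula. -/
theorem mul_shift (h : n ≤ m) (c : TW p m k) (x : TW p n k) :
    c * WittGrp.shift p h x = WittGrp.shift p h (TruncatedWittVector.truncate h (FrI m (m - n) c) * x) := by
  obtain ⟨C', rfl⟩ := WittVector.truncate_surjective p m k c
  obtain ⟨X', rfl⟩ := WittVector.truncate_surjective p n k x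
  rw [FrI_truncate, TruncatedWittVector.truncate_wittVector_truncate, ← map_mul, WittGrp.shift_truncate,
    WittGrp.shift_truncate, ← map_mul, mul_comm, WittVector.iterate_verschiebung_mul_left, mul_comm X']

theorem exists_pow_smul [PerfectRing k p] {s : ℕ} {v : TW p n k} (hv : LowZero s v) :
    ∃ u, v = (p ^ s) • u := by
  rcases le_or_gt s n with hs | hs
  · obtain ⟨x, rfl⟩ := exists_shift hs hv
    obtain ⟨X', rfl⟩ := WittVector.truncate_surjective p (n - s) k x
    obtain ⟨Y, rfl⟩ := (WittVector.frobenius_bijective p k).surjective.iterate s X'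
    refine ⟨WittVector.truncate n Y, ?_⟩
    rw [WittGrp.shift_truncate, Nat.sub_sub_self hs, WittVector.iterate_verschiebung_iterate_frobenius,
      map_mul, map_pow, map_natCast, nsmul_eq_mul, Nat.cast_pow, mul_comm]
  · refine ⟨0, ?_⟩
    rw [smul_zero]
    exact TruncatedWittVector.ext fun i => by rw [hv i (by omega), TruncatedWittVector.coeff_zero]

theorem lowZero_of_pow_smul_eq_zero {r : ℕ} {u : TW p n k} (h : (p ^ r) • u = 0) : LowZero (n - r) u := by
  suffices ∀ t, t ≤ n - r → LowZero t u from this _ le_rfl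
  intro t
  induction t with
  | zero => exact fun _ i hi => absurd hi (Nat.not_lt_zero _)
  | succ t ih =>
    intro ht i hi
    rcases (Nat.lt_succ_iff.1 hi).lt_or_eq with hlt | heq
    · exact ih (by omega) i hlt
    · have := (lowZero_nsmul r (ih (by omega))).2 ⟨t + r, by omega⟩ i rfl heq
      rw [h, TruncatedWittVector.coeff_zero] at this
      exact eq_zero_of_pow_eq_zero this.symm

theorem pow_smul_eq_zero {r : ℕ} (hr : n ≤ r) (u : TW p n k) : (p ^ r) • u = 0 :=
  TruncatedWittVector.ext fun i => by
    rw [(lowZero_nsmul r (t := 0) (fun j hj => absurd hj (Nat.not_lt_zero _))).1 i (by omega),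
      TruncatedWittVector.coeff_zero]

theorem map_lowZero [PerfectRing k p] (φ : TW p n k →+ TW p m k) {s : ℕ} {v : TW p n k} (hv : LowZero s v) :
    LowZero s (φ v) := by
  obtain ⟨u, rfl⟩ := exists_pow_smul hv
  rw [map_nsmul]
  have := (lowZero_nsmul s (t := 0) (u := φ u) (fun j hj => absurd hj (Nat.not_lt_zero _))).1
  rwa [zero_add] at this

/-- An additive map killed by `p ^ s` on its source lands in high components. -/
theorem lowZero_of_comp (φ : TW p n k →+ TW p m k) {s : ℕ} (hs : n ≤ s) (v : TW p n k) :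
    LowZero (m - s) (φ v) :=
  lowZero_of_pow_smul_eq_zero (by rw [← map_nsmul, pow_smul_eq_zero hs, map_zero])

/-- An additive map to vectors of length `s` factors through the restriction to length `s`. -/
theorem map_eq_of_truncate [PerfectRing k p] (φ : TW p n k →+ TW p m k) {s : ℕ} (hs : s ≤ n) (hms : m ≤ s)
    (v : TW p n k) : φ v = φ (pad n (TruncatedWittVector.truncate hs v)) := by
  rw [← sub_eq_zero, ← map_sub]
  obtain ⟨u, hu⟩ := exists_pow_smul (lowZero_sub_pad hs v)
  rw [hu, map_nsmul, pow_smul_eq_zero hms]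

/-- Factor through a restriction. -/
def factorR [PerfectRing k p] (φ : TW p n k →+ TW p m k) {s : ℕ} (hs : s ≤ n)
    (h : ∀ v, φ v = φ (pad n (TruncatedWittVector.truncate hs v))) : TW p s k →+ TW p m k :=
  AddMonoidHom.mk' (fun z => φ (pad n z)) fun a b => by
    rw [← map_add φ, h (pad n a + pad n b), map_add, truncate_pad hs, truncate_pad hs]

theorem factorR_spec [PerfectRing k p] (φ : TW p n k →+ TW p m k) {s : ℕ} (hs : s ≤ n)
    (h : ∀ v, φ v = φ (pad n (TruncatedWittVector.truncate hs v))) (v : TW p n k) :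
    factorR φ hs h (TruncatedWittVector.truncate hs v) = φ v := (h v).symm

/-- Factor through a shift. -/
def factorV (φ : TW p n k →+ TW p m k) {s : ℕ} (hs : s ≤ m) (h : ∀ v, LowZero (m - s) (φ v)) :
    TW p n k →+ TW p s k :=
  AddMonoidHom.mk' (fun v => tail hs (φ v)) fun a b => shift_injective hs (by
    rw [map_add (WittGrp.shift p hs), shift_tail hs (h _), shift_tail hs (h _), shift_tail hs (h _), map_add φ])

theorem factorV_spec (φ : TW p n k →+ TW p m k) {s : ℕ} (hs : s ≤ m) (h : ∀ v, LowZero (m - s) (φ v))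
    (v : TW p n k) : WittGrp.shift p hs (factorV φ hs h v) = φ v := shift_tail hs (h v)

end Groth.Agent.WittHom
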